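import Groth.Agent.BertiniAff.Quot
import Mathlib.RingTheory.LocalRing.Module
import Mathlib.RingTheory.Nakayama
import Mathlib.RingTheory.LocalRing.ResidueField.Basic

/-! A quotient of a formally smooth local algebra by one element. -/

set_option autoImplicit false
universe u

open TensorProduct KaehlerDifferential IsLocalRing

namespace Groth.Agent.SmQuot9

variable {R B : Type u} [CommRing R] [CommRing B] [Algebra R B] [IsLocalRing B]

theorem formallySmooth_quotient_iff [Algebra.FormallySmooth R B] [Module.Finite B Ω[B⁄R]] (h : B)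
    (hm : h ∈ maximalIdeal B) :
    Algebra.FormallySmooth R (B ⧸ Ideal.span {h}) ↔
      h = 0 ∨ (1 : ResidueField B) ⊗ₜ[B] D R B h ≠ 0 := by
  have : Module.Projective B Ω[B⁄R] := inferInstance
  have : Module.Free B Ω[B⁄R] := Module.free_of_flat_of_isLocalRing
  let b := Module.Free.chooseBasis B Ω[B⁄R]
  have hzero : (1 : ResidueField B) ⊗ₜ[B] D R B h = 0 ↔ ∀ i, b.repr (D R B h) i ∈ maximalIdeal B := by
    rw [← (Algebra.TensorProduct.basis (ResidueField B) b).repr.map_eq_zero_iff,
      Algebra.TensorProduct.basis_repr_tmul, Finsupp.ext_iff]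
    simp [IsLocalRing.residue_eq_zero_iff]
  constructor
  · intro hs
    by_contra hc
    push Not at hc
    obtain ⟨hh, hd⟩ := hc
    have hmi := hzero.mp hd
    let C := B ⧸ Ideal.span {h}
    have hsurj : Function.Surjective (algebraMap B C) := Ideal.Quotient.mk_surjective
    obtain ⟨l, hl⟩ := (Algebra.FormallySmooth.iff_split_injection (R := R) (P := B) hsurj).1 hs
    let I := RingHom.ker (algebraMap B C)
    have hI : I = Ideal.span {h} := Ideal.mk_ker
    have hhI : h ∈ I := hI ▸ Ideal.mem_span_singleton_self h
    have h1 : (1 : C) ⊗ₜ[B] D R B h ∈ maximalIdeal B • (⊤ : Submodule B (C ⊗[B] Ω[B⁄R])) := by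
      rw [← b.linearCombination_repr (D R B h), Finsupp.linearCombination_apply, Finsupp.sum, TensorProduct.tmul_sum]
      refine Submodule.sum_mem _ fun i _ => ?_
      rw [TensorProduct.tmul_smul]
      exact Submodule.smul_mem_smul (hmi i) Submodule.mem_top
    have h2 : I.toCotangent ⟨h, hhI⟩ ∈ maximalIdeal B • (⊤ : Submodule B I.Cotangent) := by
      have := Submodule.mem_map_of_mem (f := l.restrictScalars B) h1
      rw [Submodule.map_smul''] at this
      refine Submodule.smul_mono (N := Submodule.map (l.restrictScalars B) ⊤) le_rfl le_top ?_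
      have e := LinearMap.congr_fun hl (I.toCotangent ⟨h, hhI⟩)
      rw [LinearMap.comp_apply, kerCotangentToTensor_toCotangent, LinearMap.id_apply] at e
      rw [← e]
      exact this
    rw [← LinearMap.range_eq_top.2 I.toCotangent_surjective, LinearMap.range_eq_map, ← Submodule.map_smul''] at h2
    obtain ⟨y, hy, hyh⟩ := h2
    rw [Ideal.toCotangent_eq] at hyh
    have hy' : (y : B) ∈ maximalIdeal B * I := by
      have := Submodule.mem_map_of_mem (f := I.subtype) hy
      rwa [Submodule.map_smul'', Submodule.map_top, Submodule.range_subtype] at this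
    have hIm : I ≤ maximalIdeal B := hI ▸ (Ideal.span_singleton_le_iff_mem _).2 hm
    have : h ∈ maximalIdeal B * I := by
      have : (y : B) - h ∈ maximalIdeal B * I := by
        refine Ideal.mul_mono_left hIm ?_
        rw [← pow_two]
        exact hyh
      simpa using sub_mem hy' this
    rw [hI, Ideal.mem_mul_span_singleton] at this
    obtain ⟨c, hc, hce⟩ := this
    refine hh ((IsUnit.mul_right_eq_zero (isUnit_one_sub_self_of_mem_nonunits c hc)).1 ?_)
    rw [sub_mul, one_mul, hce, sub_self]
  · rintro (rfl | hd)
    · have : Ideal.span ({(0 : B)} : Set B) = ⊥ := Ideal.span_singleton_eq_bot.2 rfl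
      exact Algebra.FormallySmooth.of_equiv ((Ideal.quotientEquivAlgOfEq R this).trans (AlgEquiv.quotientBot R B)).symm
    · rw [ne_eq, hzero] at hd
      push Not at hd
      obtain ⟨i, hi⟩ := hd
      obtain ⟨u, hu⟩ : IsUnit (b.repr (D R B h) i) := by
        simpa [mem_maximalIdeal, mem_nonunits_iff] using hi
      exact BertiniAff.formallySmooth_quotient h ((↑u⁻¹ : B) • b.coord i)
        (by rw [LinearMap.smul_apply, Module.Basis.coord_apply, ← hu, smul_eq_mul, Units.inv_mul])

end Groth.Agent.SmQuot9
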